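import Groth.Agent.Unram17Lim.Source
import Mathlib
import Groth.Agent.LimLib.Eventual
import Groth.Agent.Omega.SmoothPoint
import Groth.Agent.StFib.FlatBaseLocus

/-!
# The differentially smooth locus and limits
-/

set_option autoImplicit false
-- opts


universe u

open CategoryTheory Limits AlgebraicGeometry TopologicalSpace Groth.Agent.LimLib

noncomputable section

namespace Groth.Agent.DiffSmoothLim47

/-- The points at which the second projection of the fibre square is smooth along the diagonal. -/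
def good {A B : Scheme.{u}} (f : A ⟶ B) [LocallyOfFinitePresentation f] : A.Opens :=
  pullback.diagonal f ⁻¹ᵁ (pullback.snd f f).smoothLocus

theorem mem_good {A B : Scheme.{u}} (f : A ⟶ B) [LocallyOfFinitePresentation f] {x : A}
    (hx : pullback.diagonal f x ∈ (pullback.snd f f).smoothLocus) : x ∈ good f := hx

theorem of_mem_good {A B : Scheme.{u}} (f : A ⟶ B) [LocallyOfFinitePresentation f] {x : A}
    (hx : x ∈ good f) : pullback.diagonal f x ∈ (pullback.snd f f).smoothLocus := hx

theorem good_eq_top_iff {A B : Scheme.{u}} (f : A ⟶ B) [LocallyOfFinitePresentation f] :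
    good f = ⊤ ↔ ∀ x : A, (pullback.diagonal f).base x ∈ (pullback.snd f f).smoothLocus :=
  ⟨fun h x => h.ge (Opens.mem_top x), fun h => Opens.ext (Set.eq_univ_of_forall h)⟩

variable {A B A₀ B₀ : Scheme.{u}} {q : A ⟶ A₀} {f : A ⟶ B} {f₀ : A₀ ⟶ B₀} {a : B ⟶ B₀}

/-- The map of fibre squares induced by a cartesian square. -/
def sqMap (h : IsPullback q f f₀ a) : pullback f f ⟶ pullback f₀ f₀ :=
  pullback.map f f f₀ f₀ q q a h.w.symm h.w.symm

theorem sqMap_fst (h : IsPullback q f f₀ a) :
    sqMap h ≫ pullback.fst f₀ f₀ = pullback.fst f f ≫ q :=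
  pullback.lift_fst _ _ _

theorem sqMap_snd (h : IsPullback q f f₀ a) :
    sqMap h ≫ pullback.snd f₀ f₀ = pullback.snd f f ≫ q :=
  pullback.lift_snd _ _ _

theorem diagonal_sqMap (h : IsPullback q f f₀ a) :
    pullback.diagonal f ≫ sqMap h = q ≫ pullback.diagonal f₀ := by
  apply pullback.hom_ext
  · rw [Category.assoc, Category.assoc, sqMap_fst, pullback.diagonal_fst_assoc, pullback.diagonal_fst,
      Category.comp_id]
  · rw [Category.assoc, Category.assoc, sqMap_snd, pullback.diagonal_snd_assoc, pullback.diagonal_snd,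
      Category.comp_id]

theorem isPullback_sqMap (h : IsPullback q f f₀ a) :
    IsPullback (sqMap h) (pullback.snd f f) (pullback.snd f₀ f₀) q := by
  have h₁ : IsPullback (pullback.fst f f ≫ q) (pullback.snd f f) f₀ (f ≫ a) :=
    (IsPullback.of_hasPullback f f).paste_horiz h
  rw [← h.w, ← sqMap_fst h] at h₁
  have t := IsPullback.of_hasPullback f₀ f₀
  exact IsPullback.of_right (h₁₁ := sqMap h) (h₁₂ := pullback.fst f₀ f₀) (h₂₂ := f₀) h₁ (sqMap_snd h) t

/-- The differentially smooth locus is stable under base change. -/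
theorem preimage_good_le [LocallyOfFinitePresentation f] [LocallyOfFinitePresentation f₀]
    (h : IsPullback q f f₀ a) : q ⁻¹ᵁ good f₀ ≤ good f := by
  intro x hx
  let V := (pullback.snd f₀ f₀).smoothLocus
  have hs : Smooth ((sqMap h ⁻¹ᵁ V).ι ≫ pullback.snd f f) :=
    MorphismProperty.of_isPullback (P := @Smooth)
      ((isPullback_morphismRestrict (sqMap h) V).paste_vert (isPullback_sqMap h))
      (Groth.Agent.StFib.smooth_smoothLocus_ι (pullback.snd f₀ f₀))
  have hx' : pullback.diagonal f₀ (q x) ∈ V := of_mem_good f₀ hx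
  refine mem_good f (Groth.Agent.Omega.SmoothPoint.mem_smoothLocus_of_nhd (pullback.snd f f)
    ⟨sqMap h ⁻¹ᵁ V, ?_, hs⟩)
  have e := congr($(diagonal_sqMap h) x)
  rw [Scheme.Hom.comp_apply, Scheme.Hom.comp_apply] at e
  exact (Scheme.Hom.mem_preimage _).2 (e ▸ hx')

section Limit

variable {I : Type u} [SmallCategory I] {D : I ⥤ Scheme.{u}} {c : Cone D} {i₀ : I}
  {X₀ X : Scheme.{u}} {g₀ : X₀ ⟶ D.obj i₀} {qX : X ⟶ X₀} {g : X ⟶ c.pt}

/-- The stage at `k`. -/
abbrev stage (g₀ : X₀ ⟶ D.obj i₀) (k : Over i₀) := pullback.snd g₀ (D.map k.hom)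

instance lfp_stage (g₀ : X₀ ⟶ D.obj i₀) [LocallyOfFinitePresentation g₀] (k : Over i₀) :
    LocallyOfFinitePresentation (stage g₀ k) :=
  inferInstanceAs (LocallyOfFinitePresentation (pullback.snd g₀ (D.map k.hom)))

/-- The differentially smooth locus of the stage at `k`, as an open of the base changed diagram. -/
def goodStage (g₀ : X₀ ⟶ D.obj i₀) [LocallyOfFinitePresentation g₀] (k : Over i₀) :
    ((bcDiag D i₀ g₀).obj k).Opens :=
  show (pullback g₀ (D.map k.hom)).Opens from
    @good (pullback g₀ (D.map k.hom)) _ (stage g₀ k) (lfp_stage g₀ k)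

theorem map_preimage_goodStage_le (g₀ : X₀ ⟶ D.obj i₀) [LocallyOfFinitePresentation g₀]
    {j k : Over i₀} (a : j ⟶ k) :
    (bcDiag D i₀ g₀).map a ⁻¹ᵁ goodStage g₀ k ≤ goodStage g₀ j :=
  preimage_good_le (f := stage g₀ j) (f₀ := stage g₀ k) (isPullback_bcDiag_map D i₀ g₀ a)

theorem exists_stage_mem [IsCofiltered I] [∀ (i j : I) (a : i ⟶ j), IsAffineHom (D.map a)]
    (hc : IsLimit c) [LocallyOfFinitePresentation g₀] [LocallyOfFinitePresentation g]
    (hX : IsPullback qX g g₀ (c.π.app i₀)) (x : X) (hx : x ∈ good g) :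
    ∃ k : Over i₀, (bcCone hX).π.app k x ∈ good (stage g₀ k) := by
  haveI : MorphismProperty.IsMultiplicative (@Smooth.{u}) :=
    { id_mem := fun _ => inferInstance }
  haveI : IsZariskiLocalAtSource (@Smooth.{u}) :=
    HasRingHomProperty.instIsZariskiLocalAtSource (P := @Smooth.{u}) (Q := RingHom.Smooth)
  haveI : LocallyOfFinitePresentation (pullback.snd g₀ g₀ ≫ g₀) := inferInstance
  obtain ⟨j, φ, Xj, Yj, fj, gj, pY, pX, rX, hYj, hXj, hr₁, hr₂, V, hxV, hV⟩ :=
    Groth.Agent.Unram17Lim.exists_stage_nhd (P := @Smooth) Groth.Agent.LimLib.descends_smooth hc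
      hX (isPullback_sqMap hX) (pullback.diagonal g x)
      ⟨(pullback.snd g g).smoothLocus, of_mem_good g hx, Groth.Agent.StFib.smooth_smoothLocus_ι _⟩
  haveI : LocallyOfFinitePresentation (stage g₀ (Over.mk φ)) :=
    inferInstanceAs (LocallyOfFinitePresentation (pullback.snd g₀ (D.map φ)))
  let fk := pullback.snd g₀ (D.map φ)
  let rk : X ⟶ pullback g₀ (D.map φ) :=
    pullback.lift qX (g ≫ c.π.app j) (by rw [hX.w, Category.assoc, c.w])
  have hk : IsPullback (pullback.fst g₀ (D.map φ)) fk g₀ (D.map φ) :=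
    IsPullback.of_hasPullback _ _
  let e := hYj.lift (pullback.fst g₀ (D.map φ)) fk hk.w
  let e' := hXj.lift (sqMap hk) (pullback.snd fk (fk) ≫ e)
    (by rw [(isPullback_sqMap hk).w, Category.assoc, IsPullback.lift_fst])
  have hpb : IsPullback e' (pullback.snd fk fk) fj e :=
    IsPullback.of_right (by simpa [e', e] using isPullback_sqMap hk) (by simp [e']) hXj
  suffices hgood : rk x ∈ good fk from ⟨Over.mk φ, hgood⟩
  refine mem_good fk <| Groth.Agent.Omega.SmoothPoint.mem_smoothLocus_of_nhd (pullback.snd fk fk)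
    ⟨e' ⁻¹ᵁ V, ?_, MorphismProperty.of_isPullback ((isPullback_morphismRestrict e' V).paste_vert hpb) hV⟩
  have he'1 : e' ≫ pX = sqMap hk := hXj.lift_fst _ _ _
  have he'2 : e' ≫ fj = pullback.snd fk fk ≫ e := hXj.lift_snd _ _ _
  have he1 : e ≫ pY = pullback.fst g₀ (D.map φ) := hYj.lift_fst _ _ _
  have he2 : e ≫ gj = fk := hYj.lift_snd _ _ _
  have hrk1 : rk ≫ pullback.fst g₀ (D.map φ) = qX := pullback.lift_fst _ _ _
  have hrk2 : rk ≫ fk = g ≫ c.π.app j := pullback.lift_snd _ _ _
  have key : rk ≫ pullback.diagonal fk ≫ e' = pullback.diagonal g ≫ rX := by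
    apply hXj.hom_ext
    · simp only [Category.assoc]
      rw [he'1, hr₁, diagonal_sqMap hk, diagonal_sqMap hX]
      exact (Category.assoc _ _ _).symm.trans (congrArg (· ≫ pullback.diagonal g₀) hrk1)
    · apply hYj.hom_ext
      · simp only [Category.assoc]
        rw [← hXj.w, reassoc_of% hr₁, sqMap_snd hX, pullback.diagonal_snd_assoc, reassoc_of% he'1,
          sqMap_snd hk, pullback.diagonal_snd_assoc]
        exact hrk1
      · simp only [Category.assoc]
        rw [hr₂, pullback.diagonal_snd_assoc, reassoc_of% he'2, he2, pullback.diagonal_snd_assoc]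
        exact hrk2
  have := congr($key x)
  simp only [Scheme.Hom.comp_apply] at this
  exact (Scheme.Hom.mem_preimage _).2 (this ▸ hxV)

theorem exists_stage_eq_top [IsCofiltered I] [∀ (i j : I) (a : i ⟶ j), IsAffineHom (D.map a)]
    (hc : IsLimit c) [LocallyOfFinitePresentation g₀] [LocallyOfFinitePresentation g]
    [CompactSpace X₀] (hX : IsPullback qX g g₀ (c.π.app i₀)) (hg : good g = ⊤) :
    ∃ k : Over i₀, good (stage g₀ k) = ⊤ := by
  have hL := isLimitBcCone hc hX
  haveI : CompactSpace X := Scheme.compactSpace_of_isLimit (bcDiag D i₀ g₀) (bcCone hX) hL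
  choose k hk using fun x : X => exists_stage_mem hc hX x (hg.ge (Opens.mem_top x))
  let W : X → X.Opens := fun x => (bcCone hX).π.app (k x) ⁻¹ᵁ goodStage g₀ (k x)
  obtain ⟨s, hs⟩ := isCompact_univ.elim_finite_subcover (fun x => (W x : Set X))
    (fun x => (W x).2) (fun x _ => Set.mem_iUnion.2 ⟨x, (hk x : (bcCone hX).π.app (k x) x ∈ goodStage g₀ (k x))⟩)
  classical
  obtain ⟨k', hk'⟩ := IsCofiltered.inf_objs_exists (s.image k)
  have htop : (bcCone hX).π.app k' ⁻¹ᵁ goodStage g₀ k' = ⊤ := by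
    refine top_le_iff.mp fun x _ => ?_
    obtain ⟨y, hy, hxy⟩ := Set.mem_iUnion₂.1 (hs (Set.mem_univ x))
    obtain ⟨a⟩ := hk' (Finset.mem_image_of_mem k hy)
    have hxy' : (bcCone hX).π.app (k y) x ∈ goodStage g₀ (k y) := hxy
    rw [← (bcCone hX).w a, Scheme.Hom.comp_apply] at hxy'
    exact map_preimage_goodStage_le g₀ a hxy'
  obtain ⟨k'', a, ha⟩ := exists_map_eq_top _ _ hL (goodStage g₀ k') htop
  exact ⟨k'', top_le_iff.mp (ha.ge.trans (map_preimage_goodStage_le g₀ a) : _ ≤ goodStage g₀ k'')⟩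

theorem good_limit_eq_top [LocallyOfFinitePresentation g] [LocallyOfFinitePresentation g₀]
    (hX : IsPullback qX g g₀ (c.π.app i₀)) {j : I} (φ : j ⟶ i₀) {Xj : Scheme.{u}}
    (fj : Xj ⟶ D.obj j) [LocallyOfFinitePresentation fj] (pX : Xj ⟶ X₀)
    (hj : IsPullback pX fj g₀ (D.map φ)) (h : good fj = ⊤) : good g = ⊤ := by
  have hr : IsPullback (hj.lift qX (g ≫ c.π.app j) (by rw [hX.w, Category.assoc, c.w])) g fj
      (c.π.app j) := IsPullback.of_right (by simpa using hX) (by simp) hj
  have := preimage_good_le hr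
  rw [h] at this
  exact top_le_iff.mp this

end Limit

end Groth.Agent.DiffSmoothLim47
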